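import Cfsg.Agent.SM.S6.Nf

/-!
# SM (S3570): the subgroups `SL₂(q³)` of `Sp₆(q)`, `q` even, form one class; the normaliser contains `A.3` (helper89)
-/

set_option autoImplicit false
set_option linter.unusedSectionVars false
set_option maxHeartbeats 200000

namespace Cfsg.Agent.SM.S6

open Matrix Module
open scoped MatrixGroups

variable {F K : Type} [Field F] [Finite F] [CharP F 2] [Field K] [Finite K] [CharP K 2]

/-- the action on the natural module -/
def ac (F : Type) [Field F] : symplecticGroup (Fin 3) F →* End F (Fin 3 ⊕ Fin 3 → F) where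
  toFun A := toLin' A.1
  map_one' := toLin'_one
  map_mul' A B := toLin'_mul A.1 B.1

/-- the form -/
noncomputable def bf (F : Type) [Field F] : LinearMap.BilinForm F (Fin 3 ⊕ Fin 3 → F) := toBilin' (J (Fin 3) F)

theorem ac_inj : Function.Injective (ac F) := fun _ _ h => Subtype.ext (toLin'.injective h)

theorem bf_ac (A : symplecticGroup (Fin 3) F) (v w : Fin 3 ⊕ Fin 3 → F) : bf F (ac F A v) (ac F A w) = bf F v w := by
  have h := congrArg toBilin' (SymplecticGroup.mem_iff'.1 A.2)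
  rw [← Matrix.toBilin'_comp] at h
  exact LinearMap.congr_fun₂ h v w

theorem exists_ac {g : End F (Fin 3 ⊕ Fin 3 → F)} (h : ∀ v w, bf F (g v) (g w) = bf F v w) : ∃ A, ac F A = g := by
  refine ⟨⟨LinearMap.toMatrix' g, SymplecticGroup.mem_iff'.2 (toBilin'.injective ?_)⟩, toLin'_toMatrix' g⟩
  rw [← Matrix.toBilin'_comp, toLin'_toMatrix']
  exact LinearMap.ext₂ h

theorem bf_alt (v : Fin 3 ⊕ Fin 3 → F) : bf F v v = 0 := by
  simp [bf, toBilin'_apply', J, dotProduct, mulVec, Fintype.sum_sum_type, one_apply, mul_comm]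

theorem bf_nd (v : Fin 3 ⊕ Fin 3 → F) (h : ∀ w, bf F v w = 0) : v = 0 := by
  refine funext fun i => ?_
  have h1 := h (-J (Fin 3) F *ᵥ Pi.single i 1)
  rwa [bf, toBilin'_apply', mulVec_mulVec, Matrix.mul_neg, J_squared, neg_neg, one_mulVec, dotProduct_single_one] at h1

section

variable [Algebra F K]

/-- the subgroup `SL₂(K)` in the coordinates `θ` -/
def Nf (θ : (Fin 2 → K) ≃ₗ[F] (Fin 3 ⊕ Fin 3 → F)) (A : Subgroup (symplecticGroup (Fin 3) F)) : Prop :=
  (∀ x y, bf F (θ x) (θ y) = Algebra.trace F K (dt x y)) ∧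
    ∀ g, g ∈ A ↔ ∃ s : SL(2, K), ∀ x, ac F g (θ x) = θ (mx s *ᵥ x)

theorem exists_nf (hK : finrank F K = 3) {A : Subgroup (symplecticGroup (Fin 3) F)} (e : A ≃* SL(2, K)) :
    ∃ θ : (Fin 2 → K) ≃ₗ[F] (Fin 3 ⊕ Fin 3 → F), Nf θ A := by
  have h : Cx ((ac F).comp (A.subtype.comp e.symm.toMonoidHom)) (bf F) :=
    ⟨hK, by simp, ac_inj.comp (Subtype.val_injective.comp e.symm.injective), bf_alt, bf_nd, fun _ => bf_ac _⟩
  obtain ⟨σ, θ, h1, h2⟩ := h.nf
  refine ⟨θ, h2, fun g => ⟨fun hg => ⟨SpecialLinearGroup.map σ.symm.toRingHom (e ⟨g, hg⟩), fun x => ?_⟩,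
    fun ⟨s, hs⟩ => ?_⟩⟩
  · rw [← h1, show SpecialLinearGroup.map σ.toRingHom (SpecialLinearGroup.map σ.symm.toRingHom (e ⟨g, hg⟩)) = e ⟨g, hg⟩
      from Subtype.ext (Matrix.ext fun i j => σ.apply_symm_apply _)]
    simp
  · rw [ac_inj (a₁ := g) (a₂ := e.symm (SpecialLinearGroup.map σ.toRingHom s)) (LinearMap.ext fun v => by
      obtain ⟨x, rfl⟩ := θ.surjective v
      exact (hs x).trans (h1 s x).symm)]
    exact Subtype.prop _

variable {θ θ' : (Fin 2 → K) ≃ₗ[F] (Fin 3 ⊕ Fin 3 → F)} {A A' : Subgroup (symplecticGroup (Fin 3) F)}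

theorem Nf.conj (h : Nf θ A) (h' : Nf θ' A') : ∃ c, (∀ x, ac F c (θ x) = θ' x) ∧ ∀ g, g ∈ A ↔ c * g * c⁻¹ ∈ A' := by
  obtain ⟨c, hc⟩ := exists_ac (g := (θ.symm.trans θ').toLinearMap) fun v w => by
    obtain ⟨x, rfl⟩ := θ.surjective v
    obtain ⟨y, rfl⟩ := θ.surjective w
    simp [h.1, h'.1]
  have h1 : ∀ x, ac F c (θ x) = θ' x := fun x => by simp [hc]
  have h2 : ∀ v, ac F c⁻¹ (ac F c v) = v := fun v => by rw [← End.mul_apply, ← map_mul, inv_mul_cancel, map_one]; rfl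
  refine ⟨c, h1, fun g => (h.2 g).trans (Iff.trans (exists_congr fun s => forall_congr' fun x => ?_) (h'.2 _).symm)⟩
  rw [map_mul, map_mul, End.mul_apply, End.mul_apply, ← h1, ← h1, h2]
  exact (Function.LeftInverse.injective h2).eq_iff.symm

/-- a field automorphism in both coordinates -/
def tw (τ : K ≃ₐ[F] K) : (Fin 2 → K) ≃ₗ[F] (Fin 2 → K) := LinearEquiv.piCongrRight fun _ => τ.toLinearEquiv

theorem tw_apply (τ : K ≃ₐ[F] K) (x : Fin 2 → K) (i : Fin 2) : tw τ x i = τ (x i) := rfl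

theorem tw_mulVec (τ : K ≃ₐ[F] K) (s : SL(2, K)) (x : Fin 2 → K) :
    tw τ (mx s *ᵥ x) = mx (SpecialLinearGroup.map τ.toRingEquiv.toRingHom s) *ᵥ tw τ x := by
  funext i
  fin_cases i <;> simp [tw_apply, mulVec, dotProduct]

theorem Nf.tw (h : Nf θ A) (τ : K ≃ₐ[F] K) : Nf ((tw τ).trans θ) A := by
  refine ⟨fun x y => ?_, fun g => (h.2 g).trans ⟨fun ⟨s, hs⟩ => ?_, fun ⟨s, hs⟩ => ?_⟩⟩
  · rw [LinearEquiv.trans_apply, LinearEquiv.trans_apply, h.1, ← Algebra.trace_eq_of_algEquiv τ (dt x y)]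
    simp [dt, tw_apply]
  · refine ⟨SpecialLinearGroup.map τ.symm.toRingEquiv.toRingHom s, fun x => ?_⟩
    rw [LinearEquiv.trans_apply, LinearEquiv.trans_apply, hs, tw_mulVec]
    congr 3
    exact Subtype.ext (Matrix.ext fun i j => (τ.apply_symm_apply _).symm)
  · refine ⟨SpecialLinearGroup.map τ.toRingEquiv.toRingHom s, fun x => ?_⟩
    obtain ⟨x, rfl⟩ := (S6.tw τ).surjective x
    exact (hs x).trans (by rw [LinearEquiv.trans_apply, tw_mulVec])

theorem Nf.three (h : Nf θ A) (hK : finrank F K = 3) :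
    ∃ c ∈ Subgroup.normalizer (A : Set (symplecticGroup (Fin 3) F)), c ∉ A ∧ c ^ 3 = 1 := by
  have h1 : Nat.card (K ≃ₐ[F] K) = 3 := (IsGalois.card_aut_eq_finrank F K).trans hK
  have : Nontrivial (K ≃ₐ[F] K) := Finite.one_lt_card_iff_nontrivial.1 (by omega)
  obtain ⟨τ, hτ⟩ := exists_ne (1 : K ≃ₐ[F] K)
  obtain ⟨c, h2, h3⟩ := h.conj (h.tw τ)
  refine ⟨c, h3, fun hc => hτ (AlgEquiv.ext fun a => ?_), ac_inj (LinearMap.ext fun v => ?_)⟩
  · obtain ⟨s, hs⟩ := (h.2 c).1 hc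
    have h4 : ∀ a : K, τ a = mx s 0 0 * a := fun a => by
      simpa [tw_apply] using congrFun (θ.injective ((h2 (Pi.single 0 a)).symm.trans (hs _))) 0
    rw [h4, ← mul_one (mx s 0 0), ← h4, map_one, one_mul]
    rfl
  · obtain ⟨x, rfl⟩ := θ.surjective v
    have h4 : τ ^ 3 = 1 := h1 ▸ pow_card_eq_one'
    have h5 : ∀ x, ac F c (θ x) = θ (S6.tw τ x) := h2
    rw [pow_three, map_mul, map_mul, End.mul_apply, End.mul_apply, h5, h5, h5, map_one]
    refine congrArg θ (funext fun i => ?_)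
    rw [pow_three] at h4
    exact AlgEquiv.congr_fun h4 (x i)

end

theorem exists_alg (hK : Nat.card K = Nat.card F ^ 3) : ∃ _ : Algebra F K, finrank F K = 3 := by
  let _ := ZMod.algebra F 2
  let _ := ZMod.algebra K 2
  have h1 := hK
  rw [Module.natCard_eq_pow_finrank (K := ZMod 2), Module.natCard_eq_pow_finrank (K := ZMod 2) (V := F), ← pow_mul] at h1
  obtain ⟨f⟩ := FiniteField.nonempty_algHom_of_finrank_dvd (F := ZMod 2) (K := F) (L := K)
    ⟨3, Nat.pow_right_injective Finite.one_lt_card h1⟩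
  let _ := f.toRingHom.toAlgebra
  rw [Module.natCard_eq_pow_finrank (K := F)] at hK
  exact ⟨_, Nat.pow_right_injective Finite.one_lt_card hK⟩

variable {L : Type} [Group L] (e : L ≃* symplecticGroup (Fin 3) F) (hK : Nat.card K = Nat.card F ^ 3)

theorem mem_im {A : Subgroup L} {g : L} : e g ∈ A.map (e : L →* symplecticGroup (Fin 3) F) ↔ g ∈ A :=
  Subgroup.mem_map_iff_mem (f := (e : L →* symplecticGroup (Fin 3) F)) e.injective

include e hK

/-- **One class.** -/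
theorem conj {A A' : Subgroup L} (hA : Nonempty (A ≃* SL(2, K))) (hA' : Nonempty (A' ≃* SL(2, K))) :
    ∃ c : L, ∀ g, g ∈ A ↔ c * g * c⁻¹ ∈ A' := by
  obtain ⟨_, h1⟩ := exists_alg hK
  obtain ⟨θ, h2⟩ := exists_nf h1 ((e.subgroupMap A).symm.trans hA.some)
  obtain ⟨θ', h3⟩ := exists_nf h1 ((e.subgroupMap A').symm.trans hA'.some)
  obtain ⟨c, -, hc⟩ := h2.conj h3
  obtain ⟨c, rfl⟩ := e.surjective c
  refine ⟨c, fun g => ?_⟩
  have h4 := hc (e g)
  rw [← map_inv, ← map_mul, ← map_mul] at h4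
  exact (mem_im e).symm.trans (h4.trans (mem_im e))

/-- **The normaliser contains `A.3`.** -/
theorem three {A : Subgroup L} (hA : Nonempty (A ≃* SL(2, K))) :
    ∃ c ∈ Subgroup.normalizer (A : Set L), c ∉ A ∧ c ^ 3 = 1 := by
  obtain ⟨_, h1⟩ := exists_alg hK
  obtain ⟨θ, h2⟩ := exists_nf h1 ((e.subgroupMap A).symm.trans hA.some)
  obtain ⟨c, h3, h4, h5⟩ := h2.three h1
  obtain ⟨c, rfl⟩ := e.surjective c
  refine ⟨c, fun g => ?_, fun h => h4 ⟨c, h, rfl⟩, e.injective (by rw [map_pow, h5, map_one])⟩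
  have h6 := h3 (e g)
  rw [← map_inv, ← map_mul, ← map_mul] at h6
  exact (mem_im e).symm.trans (h6.trans (mem_im e))

theorem three_dvd {A : Subgroup L} (hA : Nonempty (A ≃* SL(2, K))) :
    3 * Nat.card A ∣ Nat.card (Subgroup.normalizer (A : Set L)) := by
  obtain ⟨c, h1, h2, h3⟩ := three e hK hA
  have := Fact.mk Nat.prime_three
  let N := Subgroup.normalizer (A : Set L)
  rw [← (A.subgroupOf N).index_mul_card, Nat.card_congr (Subgroup.subgroupOfEquivOfLe Subgroup.le_normalizer).toEquiv]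
  refine Nat.mul_dvd_mul_right ?_ _
  rw [← orderOf_eq_prime (p := 3) (x := ((⟨c, h1⟩ : N) : N ⧸ A.subgroupOf N)) (by
    rw [← QuotientGroup.mk_pow, show (⟨c, h1⟩ : N) ^ 3 = 1 from Subtype.ext h3, QuotientGroup.mk_one])
    fun h => h2 ((QuotientGroup.eq_one_iff (N := A.subgroupOf N) _).1 h)]
  exact orderOf_dvd_natCard _

/-- **The number of subgroups `SL₂(q³)`.** -/
theorem count : {A : Subgroup L | Nonempty (A ≃* SL(2, K))}.ncard * (3 * Nat.card SL(2, K)) ≤ Nat.card L := by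
  have : Finite L := Finite.of_equiv _ e.symm.toEquiv
  rcases {A : Subgroup L | Nonempty (A ≃* SL(2, K))}.eq_empty_or_nonempty with h | ⟨A, hA⟩
  · rw [h, Set.ncard_empty, zero_mul]
    exact Nat.zero_le _
  let N := Subgroup.normalizer (A : Set L)
  choose! f hf using fun (A' : Subgroup L) (h : Nonempty (A' ≃* SL(2, K))) => conj e hK hA h
  have h1 := Set.ncard_le_ncard_of_injOn (s := {A : Subgroup L | Nonempty (A ≃* SL(2, K))}) (t := Set.univ)
    (fun A' => (f A' : L ⧸ N)) (fun _ _ => Set.mem_univ _) fun A₁ h₁ A₂ h₂ h => Subgroup.ext fun g => by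
      have h2 := (QuotientGroup.eq.1 h) ((f A₂)⁻¹ * g * f A₂)
      rw [SetLike.mem_coe, SetLike.mem_coe, hf A₂ h₂, hf A₁ h₁] at h2
      simpa [mul_assoc] using h2.symm
  rw [Set.ncard_univ] at h1
  rw [← N.index_mul_card, ← Nat.card_congr hA.some.toEquiv]
  exact Nat.mul_le_mul h1 (Nat.le_of_dvd Nat.card_pos (three_dvd e hK hA))

end Cfsg.Agent.SM.S6
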