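import Mathlib

/-!
# SM (S3570): a faithful symplectic `SL₂(q³)`-module of dimension six over `F_q`, `q` even, is the natural module (helper89)
-/

set_option autoImplicit false
set_option linter.unusedSectionVars false

namespace Cfsg.Agent.SM.S6

open Matrix Module
open scoped MatrixGroups

section sl2

variable {K : Type} [Field K] [CharP K 2]

/-- the upper unitriangular matrices -/
def uu (a : K) : SL(2, K) := ⟨!![1, a; 0, 1], by simp⟩

variable (K) in
/-- the Weyl element -/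
def nn : SL(2, K) := ⟨!![0, 1; 1, 0], by simp [CharTwo.neg_eq]⟩

theorem uu_val (a : K) : ((uu a : SL(2, K)) : Matrix (Fin 2) (Fin 2) K) = !![1, a; 0, 1] := rfl

theorem nn_val : ((nn K : SL(2, K)) : Matrix (Fin 2) (Fin 2) K) = !![0, 1; 1, 0] := rfl

/-- the diagonal matrices -/
def hh : Kˣ →* SL(2, K) where
  toFun l := ⟨!![(l : K), 0; 0, ((l⁻¹ : Kˣ) : K)], by simp⟩
  map_one' := Subtype.ext (by
    show !![((1 : Kˣ) : K), 0; 0, ((1⁻¹ : Kˣ) : K)] = 1
    simp [one_fin_two])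
  map_mul' a b := Subtype.ext (by
    show !![((a * b : Kˣ) : K), 0; 0, (((a * b)⁻¹ : Kˣ) : K)] =
      !![(a : K), 0; 0, ((a⁻¹ : Kˣ) : K)] * !![(b : K), 0; 0, ((b⁻¹ : Kˣ) : K)]
    simp [mul_comm])

theorem hh_val (l : Kˣ) : ((hh l : SL(2, K)) : Matrix (Fin 2) (Fin 2) K) = !![(l : K), 0; 0, ((l⁻¹ : Kˣ) : K)] := rfl

theorem uu_add (a b : K) : uu (a + b) = uu a * uu b :=
  Subtype.ext (by simp [uu_val, add_comm])

theorem uu_zero : uu (0 : K) = 1 := Subtype.ext (by simp [uu_val, one_fin_two])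

theorem uu_uu (a : K) : uu a * uu a = 1 := by rw [← uu_add, CharTwo.add_self_eq_zero, uu_zero]

theorem uu_comm (a b : K) : uu a * uu b = uu b * uu a := by rw [← uu_add, add_comm, uu_add]

theorem nn_nn : nn K * nn K = 1 := Subtype.ext (by simp [nn_val, one_fin_two])

theorem hh_eq (l : Kˣ) : hh l = uu (l : K) * nn K * uu ((l⁻¹ : Kˣ) : K) * nn K * uu (l : K) * nn K :=
  Subtype.ext (by simp [uu_val, nn_val, hh_val, CharTwo.add_self_eq_zero])

theorem uu_hh (l : Kˣ) (a : K) : uu a * hh l = hh l * uu (((l⁻¹ : Kˣ) : K) ^ 2 * a) :=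
  Subtype.ext (by
    simp [uu_val, hh_val]
    field_simp)

theorem hh_nn (l : Kˣ) : hh l * nn K = nn K * hh l⁻¹ :=
  Subtype.ext (by simp [nn_val, hh_val])

theorem hh_inj : Function.Injective (hh : Kˣ → SL(2, K)) := fun _ _ h =>
  Units.ext (congrArg (fun g : SL(2, K) => g.1 0 0) h)

theorem uu_ne : uu (1 : K) ≠ 1 := fun h => by
  simpa [uu_val] using congrArg (fun g : SL(2, K) => g.1 0 1) h

theorem sl2_ind (P : SL(2, K) → Prop) (hu : ∀ a, P (uu a)) (hn : P (nn K)) (hm : ∀ a b, P a → P b → P (a * b))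
    (g : SL(2, K)) : P g := by
  refine SL2.transvection_induction P (fun i j h c => ?_) hm g
  fin_cases i <;> fin_cases j
  · exact absurd rfl h
  · convert hu c using 1
    ext i j
    fin_cases i <;> fin_cases j <;> simp [uu_val, SpecialLinearGroup.transvection_coe]
  · convert hm _ _ (hm _ _ hn (hu c)) hn using 1
    ext i j
    fin_cases i <;> fin_cases j <;> simp [uu_val, nn_val, SpecialLinearGroup.transvection_coe]
  · exact absurd rfl h

end sl2

theorem exists_prime {q : ℕ} (hq : 2 ≤ q) : ∃ r, r.Prime ∧ r ≠ 2 ∧ r ∣ q ^ 3 - 1 ∧ orderOf (q : ZMod r) = 3 := by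
  obtain ⟨r, h1, h2, h3⟩ : ∃ r, r.Prime ∧ r ∣ q ^ 2 + q + 1 ∧ r ≠ 3 := by
    by_contra h
    push Not at h
    obtain ⟨k, hk⟩ : ∃ k, q ^ 2 + q + 1 = 3 ^ k :=
      ⟨_, Nat.eq_prime_pow_of_unique_prime_dvd (by omega) fun h1 h2 => h _ h1 h2⟩
    have h4 : 2 ≤ k := by
      by_contra h5
      have : k = 0 ∨ k = 1 := by omega
      rcases this with rfl | rfl <;> nlinarith
    have h5 : (q ^ 2 + q + 1) % 9 = 0 := Nat.mod_eq_zero_of_dvd (hk ▸ pow_dvd_pow 3 h4)
    have h6 : ∀ x < 9, (x ^ 2 + x + 1) % 9 ≠ 0 := by decide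
    refine h6 (q % 9) (Nat.mod_lt _ (by norm_num)) ?_
    rw [← h5]
    simp [Nat.add_mod, Nat.pow_mod]
  have := Fact.mk h1
  have h4 : (q : ZMod r) ^ 2 + q + 1 = 0 := by exact_mod_cast (ZMod.natCast_eq_zero_iff _ _).2 h2
  refine ⟨r, h1, ?_, h2.trans ⟨q - 1, ?_⟩, ?_⟩
  · rintro rfl
    have h5 : Even (q * (q + 1)) := Nat.even_mul_succ_self q
    have h6 : q * (q + 1) = q ^ 2 + q := by ring
    rw [h6] at h5
    obtain ⟨m, hm⟩ := h5
    omega
  · obtain ⟨m, rfl⟩ : ∃ m, q = m + 1 := ⟨q - 1, by omega⟩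
    rw [Nat.add_sub_cancel]
    exact Nat.sub_eq_of_eq_add (by ring)
  · have := Fact.mk Nat.prime_three
    refine orderOf_eq_prime (by linear_combination (q - 1 : ZMod r) * h4) fun h5 => h3 ?_
    rw [h5] at h4
    exact (Nat.prime_dvd_prime_iff_eq h1 Nat.prime_three).1 ((ZMod.natCast_eq_zero_iff _ _).1 (by
      rw [← h4]
      norm_num))

section lin

variable {F V : Type} [Field F] [Finite F] [AddCommGroup V] [Module F V] [Finite V]

/-- the fixed points -/
def FX (T : End F V) : Submodule F V where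
  carrier := {v | T v = v}
  zero_mem' := map_zero _
  add_mem' h h' := by rw [Set.mem_ofPred_eq, map_add, h, h']
  smul_mem' c _ h := by rw [Set.mem_ofPred_eq, map_smul, h]

theorem modEq_fix {T : End F V} {r : ℕ} (hr : r.Prime) (hT : T ^ r = 1) {X : Submodule F V} (hX : ∀ x ∈ X, T x ∈ X) :
    Nat.card F ^ finrank F X ≡ Nat.card F ^ finrank F ↥(X ⊓ FX T) [MOD r] := by
  classical
  have := Fact.mk hr
  have := Fintype.ofFinite V
  let f : Function.End X := fun x => ⟨T x, hX x x.2⟩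
  have h1 : ∀ (n : ℕ) (x : X), ((f ^ n) x).1 = (T ^ n) x := fun n => by
    induction n with
    | zero => exact fun _ => rfl
    | succ n ih => exact fun x => by rw [pow_succ, pow_succ]; exact ih (f x)
  have h2 := Equiv.Perm.card_fixedPoints_modEq (f := f) (p := r) (n := 1) (funext fun x => Subtype.ext (by
    rw [pow_one, h1, hT]
    rfl))
  rw [← Module.natCard_eq_pow_finrank, ← Module.natCard_eq_pow_finrank]
  rw [← Nat.card_eq_fintype_card, ← Nat.card_eq_fintype_card] at h2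
  refine h2.trans (by rw [Nat.card_congr (α := f.fixedPoints) (β := ↥(X ⊓ FX T))
    ⟨fun x => ⟨x.1.1, x.1.2, congrArg Subtype.val x.2⟩,
      fun x => ⟨⟨x.1, x.2.1⟩, Subtype.ext x.2.2⟩, fun _ => rfl, fun _ => rfl⟩])

theorem rad_three {B : LinearMap.BilinForm F V} (alt : ∀ v, B v v = 0) {X : Submodule F V} (h : finrank F X = 3) :
    ∃ v ∈ X, v ≠ 0 ∧ ∀ w ∈ X, B v w = 0 := by
  have sk : ∀ v w, B v w = -B w v := fun v w => by
    have h1 := alt (v + w)
    simp only [map_add, LinearMap.add_apply, alt] at h1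
    linear_combination h1
  let b := Module.finBasisOfFinrankEq F X h
  have h1 : ∀ v : V, (∀ i, B v (b i) = 0) → ∀ w ∈ X, B v w = 0 := fun v hv w hw => by
    have h2 := congrArg Subtype.val (b.sum_repr ⟨w, hw⟩)
    simp only [Submodule.coe_sum, Submodule.coe_smul] at h2
    rw [← h2, map_sum]
    exact Finset.sum_eq_zero fun i _ => by rw [map_smul, hv, smul_zero]
  by_cases h2 : B (b 0) (b 1) = 0 ∧ B (b 0) (b 2) = 0
  · refine ⟨b 0, (b 0).2, fun e => b.ne_zero 0 (Subtype.ext e), h1 _ fun i => ?_⟩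
    fin_cases i
    exacts [alt _, h2.1, h2.2]
  · refine ⟨(B (b 1) (b 2) • b 0 + B (b 2) (b 0) • b 1 + B (b 0) (b 1) • b 2 : X), Subtype.prop _, fun e => h2 ?_,
      h1 _ fun i => ?_⟩
    · have h3 := Fintype.linearIndependent_iff.1 b.linearIndependent ![B (b 1) (b 2), B (b 2) (b 0), B (b 0) (b 1)] (by
        rw [Fin.sum_univ_three]
        exact Subtype.ext e)
      exact ⟨h3 2, by rw [sk, show B (b 2) (b 0) = 0 from h3 1, neg_zero]⟩
    · fin_cases i <;>
        simp only [Submodule.coe_add, Submodule.coe_smul, map_add, map_smul, LinearMap.add_apply, LinearMap.smul_apply,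
          smul_eq_mul, Fin.zero_eta, Fin.mk_one, Fin.reduceFinMk, alt]
      · rw [sk (b 1) (b 0)]; ring
      · rw [sk (b 2) (b 1)]; ring
      · rw [sk (b 2) (b 0)]; ring

end lin

variable {F K V : Type} [Field F] [Finite F] [CharP F 2] [Field K] [Finite K] [CharP K 2] [Algebra F K] [AddCommGroup V]
  [Module F V] [Finite V]

/-- the setting -/
structure Cx (ρ : SL(2, K) →* End F V) (B : LinearMap.BilinForm F V) : Prop where
  dK : finrank F K = 3
  dV : finrank F V = 6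
  inj : Function.Injective ρ
  alt : ∀ v, B v v = 0
  nd : ∀ v, (∀ w, B v w = 0) → v = 0
  inv : ∀ g v w, B (ρ g v) (ρ g w) = B v w

/-- the fixed points of the unipotent radical -/
def WW (ρ : SL(2, K) →* End F V) : Submodule F V where
  carrier := {v | ∀ a, ρ (uu a) v = v}
  zero_mem' _ := map_zero _
  add_mem' h h' a := by rw [map_add, h, h']
  smul_mem' c _ h a := by rw [map_smul, h]

variable {ρ : SL(2, K) →* End F V} {B : LinearMap.BilinForm F V}

theorem ap_mul (ρ : SL(2, K) →* End F V) (a b : SL(2, K)) (v : V) : ρ (a * b) v = ρ a (ρ b v) := by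
  rw [map_mul]; rfl

theorem ap_one (ρ : SL(2, K) →* End F V) (v : V) : ρ 1 v = v := by rw [map_one]; rfl

theorem add_self (F : Type) [Field F] [CharP F 2] [Module F V] (v : V) : v + v = 0 := by
  rw [← two_smul F, show (2 : F) = 0 from CharTwo.two_eq_zero, zero_smul]

theorem hh_WW (l : Kˣ) {v : V} (hv : v ∈ WW ρ) : ρ (hh l) v ∈ WW ρ := fun a => by
  rw [← ap_mul, uu_hh, ap_mul, hv]

/-- an invariant subspace contains fixed points -/
theorem exists_fix {X : Submodule F V} (hX : ∀ a, ∀ x ∈ X, ρ (uu a) x ∈ X) {x : V} (hx : x ∈ X) (h0 : x ≠ 0) :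
    ∃ v ∈ X, v ≠ 0 ∧ v ∈ WW ρ := by
  have : Nonempty {v // v ∈ X ∧ v ≠ 0} := ⟨⟨x, hx, h0⟩⟩
  obtain ⟨⟨v, h1, h2⟩, h3⟩ := Finite.exists_max fun v : {v // v ∈ X ∧ v ≠ 0} => {a | ρ (uu a) v.1 = v.1}.ncard
  refine ⟨v, h1, h2, fun a => ?_⟩
  by_contra h4
  refine absurd (h3 ⟨ρ (uu a) v - v, sub_mem (hX a v h1) h1, sub_ne_zero.2 h4⟩) (not_le.2 ?_)
  refine Set.ncard_lt_ncard ⟨fun b hb => ?_, fun h5 => h4 (h5 (a := a) ?_)⟩
  · show ρ (uu b) (ρ (uu a) v - v) = ρ (uu a) v - v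
    rw [map_sub, ← ap_mul, uu_comm, ap_mul, show ρ (uu b) v = v from hb]
  · show ρ (uu a) (ρ (uu a) v - v) = ρ (uu a) v - v
    rw [map_sub, ← ap_mul, uu_uu, ap_one, ← neg_sub, neg_eq_iff_add_eq_zero, add_self F]

namespace Cx

variable (h : Cx ρ B)
include h

theorem sk (v w : V) : B v w = -B w v := by
  have h1 := h.alt (v + w)
  simp only [map_add, LinearMap.add_apply, h.alt] at h1
  linear_combination h1

theorem exists_tor : ∃ l : Kˣ, (∀ v, ρ (hh l) v = v → v = 0) ∧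
    ∀ X : Submodule F V, (∀ x ∈ X, ρ (hh l) x ∈ X) → 3 ∣ finrank F X := by
  obtain ⟨r, h1, h2, h3, h4⟩ := exists_prime (q := Nat.card F) Finite.one_lt_card
  have := Fact.mk h1
  obtain ⟨l, hl⟩ := exists_prime_orderOf_dvd_card' (G := Kˣ) r (by
    rwa [Nat.card_units, Module.natCard_eq_pow_finrank (K := F), h.dK])
  have hT : ρ (hh l) ^ r = 1 := by rw [← map_pow, ← map_pow, ← hl, pow_orderOf_eq_one, map_one, map_one]
  have h5 : ∀ {a b : ℕ}, Nat.card F ^ a ≡ Nat.card F ^ b [MOD r] → 3 ∣ b → 3 ∣ a := fun {a b} e e' => by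
    rw [← h4, orderOf_dvd_iff_pow_eq_one] at e' ⊢
    rw [← e']
    exact_mod_cast (ZMod.natCast_eq_natCast_iff _ _ _).2 e
  have h6 : FX (ρ (hh l)) = ⊥ := by
    have h7 := modEq_fix h1 hT (X := ⊤) fun _ _ => trivial
    rw [top_inf_eq, finrank_top, h.dV] at h7
    have h8 := h5 h7.symm (by norm_num)
    have h9 := (FX (ρ (hh l))).finrank_le
    rw [h.dV] at h9
    have h10 : finrank F (FX (ρ (hh l))) ≠ 6 := fun e => by
      have h11 : ρ (hh l) = 1 := LinearMap.ext fun v =>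
        (show v ∈ FX (ρ (hh l)) from Submodule.eq_top_of_finrank_eq (e.trans h.dV.symm) ▸ Submodule.mem_top)
      rw [← map_one ρ, h.inj.eq_iff, ← map_one hh, hh_inj.eq_iff] at h11
      rw [h11, orderOf_one] at hl
      exact h1.one_lt.ne hl
    have h11 : finrank F (FX (ρ (hh l))) ≠ 3 := fun e => by
      obtain ⟨v, v1, v2, v3⟩ := rad_three h.alt e
      refine v2 (h.nd v fun w => ?_)
      have v4 : ∀ i : ℕ, B v ((ρ (hh l) ^ i) w) = B v w := fun i => by
        induction i with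
        | zero => rfl
        | succ i ih =>
          rw [pow_succ', End.mul_apply, ← ih, ← h.inv (hh l) v ((ρ (hh l) ^ i) w), show ρ (hh l) v = v from v1]
      have v5 := v3 ((∑ i ∈ Finset.range r, ρ (hh l) ^ i) w) (by
        refine sub_eq_zero.1 (?_ : (ρ (hh l) - 1) _ = 0)
        rw [← End.mul_apply, mul_geom_sum, hT, sub_self, LinearMap.zero_apply])
      rw [LinearMap.sum_apply, map_sum, Finset.sum_congr rfl fun i _ => v4 i, Finset.sum_const, Finset.card_range,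
        nsmul_eq_mul, mul_eq_zero, CharP.cast_eq_zero_iff F 2] at v5
      exact v5.resolve_left fun e => h2 ((Nat.prime_dvd_prime_iff_eq Nat.prime_two h1).1 e).symm
    exact Submodule.finrank_eq_zero.1 (by omega)
  refine ⟨l, fun v hv => ?_, fun X hX => h5 (modEq_fix h1 hT hX) ?_⟩
  · exact (Submodule.mem_bot F).1 (h6 ▸ (hv : v ∈ FX (ρ (hh l))))
  · rw [h6, inf_bot_eq, finrank_bot]
    exact dvd_zero 3

/-- the action is quadratic -/
theorem quad : finrank F (WW ρ) = 3 ∧ (∀ a v, ρ (uu a) v - v ∈ WW ρ) ∧ (∀ v ∈ WW ρ, ∀ w ∈ WW ρ, B v w = 0) ∧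
    ∀ v ∈ WW ρ, ρ (nn K) v ∈ WW ρ → v = 0 := by
  obtain ⟨l, h1, h2⟩ := h.exists_tor
  have h3 : ∀ X : Submodule F V, (∀ x ∈ X, ρ (hh l) x ∈ X) → X ≠ ⊥ → X ≠ ⊤ → finrank F X = 3 := fun X e1 e2 e3 => by
    have h4 := h2 X e1
    have h5 := Submodule.finrank_lt e3
    have h6 : finrank F X ≠ 0 := fun e => e2 (Submodule.finrank_eq_zero.1 e)
    rw [h.dV] at h5
    omega
  let X : Submodule F V :=
    { carrier := {v | ∀ w ∈ WW ρ, B v w = 0}
      zero_mem' := fun _ _ => by simp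
      add_mem' := fun e e' w hw => by rw [map_add, LinearMap.add_apply, e w hw, e' w hw, add_zero]
      smul_mem' := fun c _ e w hw => by rw [map_smul, LinearMap.smul_apply, e w hw, smul_zero] }
  have x1 : ∀ a v, ρ (uu a) v - v ∈ X := fun a v w hw => by
    rw [map_sub, LinearMap.sub_apply, ← h.inv (uu a) v w, hw, sub_self]
  have x2 : ∀ x ∈ X, ρ (hh l) x ∈ X := fun x hx w hw => by
    rw [← ap_one ρ w, ← map_one hh, ← mul_inv_cancel l, map_mul, ap_mul, h.inv, hx _ (hh_WW _ hw)]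
  obtain ⟨v, hv⟩ : ∃ v, ρ (uu 1) v - v ≠ 0 := by
    by_contra e
    push Not at e
    exact uu_ne (h.inj ((LinearMap.ext fun v => sub_eq_zero.1 (e v)).trans (map_one ρ).symm))
  obtain ⟨w, w1, w2, w3⟩ := exists_fix (ρ := ρ) (X := X) (fun a x hx => by
    simpa using add_mem (x1 a x) hx) (x1 1 v) hv
  have x3 : X ≠ ⊤ := fun e => w2 (h.nd w fun y => by
    rw [h.sk, (show y ∈ X from e ▸ Submodule.mem_top) w w3, neg_zero])
  have x4 : finrank F X = 3 := h3 X x2 (fun e => w2 ((Submodule.mem_bot F).1 (e ▸ w1))) x3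
  have x5 : finrank F ↥(WW ρ ⊓ X) = 3 := h3 _ (fun x hx => ⟨hh_WW l hx.1, x2 x hx.2⟩)
    (fun e => w2 ((Submodule.mem_bot F).1 (e ▸ ⟨w3, w1⟩))) fun e => x3 (eq_top_iff.2 (e.ge.trans inf_le_right))
  have x6 : finrank F (WW ρ) = 3 := h3 _ (fun x hx => hh_WW l hx) (fun e => w2 ((Submodule.mem_bot F).1 (e ▸ w3)))
    fun e => hv (sub_eq_zero.2 ((show v ∈ WW ρ from e ▸ Submodule.mem_top) 1))
  have x7 : WW ρ ⊓ X = X := Submodule.eq_of_le_of_finrank_eq inf_le_right (x5.trans x4.symm)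
  have x8 : WW ρ ⊓ X = WW ρ := Submodule.eq_of_le_of_finrank_eq inf_le_left (x5.trans x6.symm)
  refine ⟨x6, fun a v => (x7.ge (x1 a v)).1, fun v hv => (x8.ge hv).2, fun v v1 v2 => h1 v ?_⟩
  have h4 : ρ (nn K) (ρ (nn K) v) = v := by rw [← ap_mul, nn_nn, ap_one]
  have h5 : ∀ l, ρ (hh l) v = ρ (nn K) v := fun l => by
    rw [hh_eq]
    simp only [ap_mul]
    rw [v2, h4, v1, v2]
  rw [h5, ← h5 1, map_one, ap_one]

end Cx

end Cfsg.Agent.SM.S6
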