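import Cfsg.Agent.SM.S6.Nat

/-!
# SM (S3570): the normal form of a subgroup `SL₂(q³)` of `Sp₆(q)`, `q` even (helper89)
-/

set_option autoImplicit false
set_option linter.unusedSectionVars false
set_option maxHeartbeats 200000

namespace Cfsg.Agent.SM.S6

open Matrix Module
open scoped MatrixGroups

variable {F K V : Type} [Field F] [Finite F] [CharP F 2] [Field K] [Finite K] [CharP K 2] [Algebra F K] [AddCommGroup V]
  [Module F V] [Finite V] {ρ : SL(2, K) →* End F V} {B : LinearMap.BilinForm F V}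

/-- the action of the field on the fixed points -/
def ps (ρ : SL(2, K) →* End F V) (a : K) : End F V := (ρ (uu a) - 1) * ρ (nn K)

theorem ps_eq (a : K) (w : V) : ρ (uu a) (ρ (nn K) w) = ρ (nn K) w + ps ρ a w := by
  simp [ps]

theorem ap_nn (v : V) : ρ (nn K) (ρ (nn K) v) = v := by rw [← ap_mul, nn_nn, ap_one]

theorem ps_zero (w : V) : ps ρ 0 w = 0 := by simp [ps, uu_zero]

namespace Cx

variable (h : Cx ρ B)
include h

theorem ps_mem (a : K) (w : V) : ps ρ a w ∈ WW ρ := h.quad.2.1 a _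

theorem ps_add (a b : K) (w : V) : ps ρ (a + b) w = ps ρ a w + ps ρ b w := by
  have h1 := ps_eq (ρ := ρ) (a + b) w
  rw [uu_add, ap_mul, ps_eq, map_add, ps_eq, h.ps_mem b w a, add_assoc] at h1
  exact (add_left_cancel h1).symm

theorem ps_hh (l : Kˣ) {w : V} (hw : w ∈ WW ρ) : ps ρ l w = ρ (hh l) w := by
  have h1 : ρ (hh l) w = ρ (nn K) (w + ps ρ ((l⁻¹ : Kˣ) : K) (ps ρ l w)) + ps ρ l (ps ρ ((l⁻¹ : Kˣ) : K) (ps ρ l w)) := by
    rw [hh_eq]
    simp only [ap_mul, ps_eq, map_add, ap_nn]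
    rw [hw, h.ps_mem l w l, add_assoc, ← add_assoc (ps ρ l w), add_self F, zero_add, add_assoc]
  have h2 : w + ps ρ ((l⁻¹ : Kˣ) : K) (ps ρ l w) = 0 := h.quad.2.2.2 _ (add_mem hw (h.ps_mem _ _)) (by
    rw [← sub_eq_iff_eq_add.2 h1]
    exact sub_mem (hh_WW l hw) (h.ps_mem _ _))
  rw [h1, h2, map_zero, zero_add, add_left_cancel (h2.trans (add_self F w).symm)]

theorem ps_one {w : V} (hw : w ∈ WW ρ) : ps ρ 1 w = w := (h.ps_hh 1 hw).trans (by rw [map_one, ap_one])

theorem ps_mul (a b : K) {w : V} (hw : w ∈ WW ρ) : ps ρ (a * b) w = ps ρ a (ps ρ b w) := by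
  rcases eq_or_ne a 0 with rfl | ha
  · rw [zero_mul, ps_zero, ps_zero]
  rcases eq_or_ne b 0 with rfl | hb
  · rw [mul_zero, ps_zero, map_zero]
  have h1 := h.ps_hh (Units.mk0 a ha * Units.mk0 b hb) hw
  rwa [map_mul, ap_mul, ← h.ps_hh _ hw, ← h.ps_hh _ (h.ps_mem _ _)] at h1

theorem ps_eq_zero {a : K} {w : V} (hw : w ∈ WW ρ) (h0 : w ≠ 0) (e : ps ρ a w = 0) : a = 0 := by
  by_contra ha
  refine h0 ?_
  rw [← h.ps_one hw, ← inv_mul_cancel₀ ha, h.ps_mul _ _ hw, e, map_zero]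

theorem ps_inj {w : V} (hw : w ∈ WW ρ) (h0 : w ≠ 0) {a b : K} (e : ps ρ a w = ps ρ b w) : a = b := by
  have h1 := h.ps_eq_zero hw h0 (a := a + b) (by rw [h.ps_add, e, add_self F])
  rwa [CharTwo.add_eq_zero] at h1

theorem ps_surj {w : V} (hw : w ∈ WW ρ) (h0 : w ≠ 0) {v : V} (hv : v ∈ WW ρ) : ∃ a, ps ρ a w = v := by
  have h1 : Function.Bijective fun a : K => (⟨ps ρ a w, h.ps_mem a w⟩ : WW ρ) :=
    (Nat.bijective_iff_injective_and_card _).2 ⟨fun a b e => h.ps_inj hw h0 (congrArg Subtype.val e), by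
      rw [Module.natCard_eq_pow_finrank (K := F), Module.natCard_eq_pow_finrank (K := F) (V := WW ρ), h.dK, h.quad.1]⟩
  obtain ⟨a, ha⟩ := h1.2 ⟨v, hv⟩
  exact ⟨a, congrArg Subtype.val ha⟩

/-- the scalars -/
theorem exists_aut {w : V} (hw : w ∈ WW ρ) (h0 : w ≠ 0) :
    ∃ σ : K ≃+* K, ∀ (c : F) (a : K), ps ρ (σ (c • a)) w = c • ps ρ (σ a) w := by
  choose j hj using fun c : F => h.ps_surj hw h0 ((WW ρ).smul_mem c hw)
  have h1 : ∀ c a, ps ρ (j c * a) w = c • ps ρ a w := fun c a => by rw [mul_comm, h.ps_mul _ _ hw, hj, map_smul]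
  let J : F →+* K :=
    { toFun := j
      map_one' := h.ps_inj hw h0 (by rw [hj, h.ps_one hw, one_smul])
      map_mul' := fun c d => h.ps_inj hw h0 (by rw [h1, hj, hj, mul_smul])
      map_zero' := h.ps_inj hw h0 (by rw [hj, ps_zero, zero_smul])
      map_add' := fun c d => h.ps_inj hw h0 (by rw [h.ps_add, hj, hj, hj, add_smul]) }
  have h2 := @Module.natCard_eq_pow_finrank F K _ _ J.toAlgebra.toModule _
  rw [Module.natCard_eq_pow_finrank (K := F)] at h2
  obtain ⟨f⟩ := @FiniteField.nonempty_algHom_of_finrank_dvd F K K _ _ _ _ J.toAlgebra _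
    (Nat.pow_right_injective Finite.one_lt_card h2).dvd
  let g : K →+* K := @AlgHom.toRingHom F K K _ _ _ _ J.toAlgebra f
  have h3 : ∀ c, g (algebraMap F K c) = j c := @AlgHom.commutes F K K _ _ _ _ J.toAlgebra f
  refine ⟨RingEquiv.ofBijective g (Finite.injective_iff_bijective.1 g.injective), fun c a => ?_⟩
  rw [RingEquiv.ofBijective_apply, RingEquiv.ofBijective_apply, Algebra.smul_def, map_mul, h3, h1]

end Cx

/-- the matrix -/
abbrev mx (g : SL(2, K)) : Matrix (Fin 2) (Fin 2) K := g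

/-- the determinant form -/
def dt (x y : Fin 2 → K) : K := x 0 * y 1 + x 1 * y 0

theorem dt_smul (g : SL(2, K)) (x y : Fin 2 → K) : dt (mx g *ᵥ x) (mx g *ᵥ y) = dt x y := by
  have h : (mx g).det = 1 := g.2
  rw [det_fin_two, CharTwo.sub_eq_add] at h
  have h2 : (2 : K) = 0 := CharTwo.two_eq_zero
  simp only [dt, mulVec, dotProduct, Fin.sum_univ_two]
  linear_combination (x 0 * y 1 + x 1 * y 0) * h + (mx g 0 0 * mx g 1 0 * x 0 * y 0 + mx g 0 1 * mx g 1 1 * x 1 * y 1) * h2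

/-- **The normal form.** -/
theorem Cx.nf (h : Cx ρ B) : ∃ (σ : K ≃+* K) (θ : (Fin 2 → K) ≃ₗ[F] V),
    (∀ g x, ρ (SpecialLinearGroup.map σ.toRingHom g) (θ x) = θ (mx g *ᵥ x)) ∧
      ∀ x y, B (θ x) (θ y) = Algebra.trace F K (dt x y) := by
  obtain ⟨w, hw, h0⟩ := (WW ρ).ne_bot_iff.1 fun e => by
    have h1 := h.quad.1
    rw [e, finrank_bot] at h1
    omega
  obtain ⟨σ, hσ⟩ := h.exists_aut hw h0
  let t : (Fin 2 → K) →ₗ[F] V :=
    { toFun := fun x => ps ρ (σ (x 0)) w + ρ (nn K) (ps ρ (σ (x 1)) w)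
      map_add' := fun x y => by simp only [Pi.add_apply, map_add, h.ps_add, add_add_add_comm]
      map_smul' := fun c x => by simp only [Pi.smul_apply, hσ, map_smul, smul_add, RingHom.id_apply] }
  have t0 : ∀ x, t x = ps ρ (σ (x 0)) w + ρ (nn K) (ps ρ (σ (x 1)) w) := fun _ => rfl
  have t1 : Function.Injective t := (injective_iff_map_eq_zero t).2 fun x hx => by
    have h1 := h.quad.2.2.2 _ (h.ps_mem (σ (x 1)) w) (by
      rw [eq_neg_of_add_eq_zero_right hx]
      exact neg_mem (h.ps_mem _ _))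
    rw [t0, h1, map_zero, add_zero] at hx
    funext i
    fin_cases i
    exacts [σ.map_eq_zero_iff.1 (h.ps_eq_zero hw h0 hx), σ.map_eq_zero_iff.1 (h.ps_eq_zero hw h0 h1)]
  have t2 : ∀ g x, ρ (SpecialLinearGroup.map σ.toRingHom g) (t x) = t (mx g *ᵥ x) := fun g => by
    induction g using sl2_ind with
    | hu a =>
      intro x
      have h1 : SpecialLinearGroup.map σ.toRingHom (uu a) = uu (σ a) := by
        ext i j
        fin_cases i <;> fin_cases j <;> simp [uu_val]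
      rw [h1, t0, t0, map_add, h.ps_mem, ps_eq, ← h.ps_mul _ _ hw]
      simp [uu_val, h.ps_add, mulVec, dotProduct, add_assoc, add_comm]
    | hn =>
      intro x
      have h1 : SpecialLinearGroup.map σ.toRingHom (nn K) = nn K := by
        ext i j
        fin_cases i <;> fin_cases j <;> simp [nn_val]
      rw [h1, t0, t0, map_add, ap_nn, add_comm]
      simp [nn_val, mulVec, dotProduct]
    | hm a b ha hb => exact fun x => by rw [map_mul, ap_mul, hb, ha, mulVec_mulVec]; rfl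
  have t3 : ∀ (g : SL(2, K)) x y, B (t (mx g *ᵥ x)) (t (mx g *ᵥ y)) = B (t x) (t y) := fun g x y => by
    rw [← t2, ← t2, h.inv]
  let θ := t.linearEquivOfInjective t1 (by
    rw [h.dV, Module.finrank_pi_fintype, Finset.sum_const, h.dK]
    rfl)
  let L : Module.Dual F K := (B.flip (t ![0, 1])).comp (t.comp (LinearMap.single F (fun _ => K) 0))
  have l1 : ∀ a b, B (t (Pi.single 0 a)) (t (Pi.single 1 b)) = L (a * b) := fun a b => by
    rcases eq_or_ne b 0 with rfl | hb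
    · simp
    have e1 : mx (hh (Units.mk0 b hb)) *ᵥ Pi.single 0 a = Pi.single 0 (a * b) := by
      funext i
      fin_cases i <;> simp [hh_val, mul_comm]
    have e2 : mx (hh (Units.mk0 b hb)) *ᵥ Pi.single 1 b = ![0, 1] := by
      funext i
      fin_cases i <;> simp [hh_val, hb]
    rw [← t3 (hh (Units.mk0 b hb)), e1, e2]
    rfl
  have l2 : ∀ a b, B (t (Pi.single 0 a)) (t (Pi.single 0 b)) = 0 := fun a b => by
    simpa [t0, ps_zero] using h.quad.2.2.1 _ (h.ps_mem _ _) _ (h.ps_mem _ _)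
  have l3 : ∀ a b, B (t (Pi.single 1 a)) (t (Pi.single 1 b)) = 0 := fun a b => by
    simpa [t0, ps_zero, h.inv] using h.quad.2.2.1 _ (h.ps_mem _ _) _ (h.ps_mem _ _)
  have l4 : ∀ x y, B (t x) (t y) = L (dt x y) := fun x y => by
    have h1 : ∀ z : Fin 2 → K, z = Pi.single 0 (z 0) + Pi.single 1 (z 1) := fun z => by
      funext i
      fin_cases i <;> simp
    conv_lhs => rw [h1 x, h1 y]
    simp only [map_add, LinearMap.add_apply]
    rw [l1, l2, l3, h.sk, l1, CharTwo.neg_eq, zero_add, add_zero, dt, map_add, mul_comm (x 1), add_comm]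
  obtain ⟨c, hc⟩ := ((Algebra.traceForm F K).toDual (traceForm_nondegenerate F K)).surjective L
  have l5 : ∀ a, L a = Algebra.trace F K (c * a) := fun a => by rw [← hc]; rfl
  obtain ⟨m, rfl⟩ : ∃ m, m * m = c := by
    have := Fact.mk Nat.prime_two
    obtain ⟨m, hm⟩ := (bijective_frobenius K 2).2 c
    exact ⟨m, by rw [← hm, frobenius_def, sq]⟩
  have m0 : m ≠ 0 := by
    rintro rfl
    refine h0 (h.nd w fun v => ?_)
    obtain ⟨x, hx⟩ := θ.surjective w
    obtain ⟨y, rfl⟩ := θ.surjective v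
    rw [← hx]
    exact (l4 x y).trans (by rw [l5, mul_zero, zero_mul, map_zero])
  refine ⟨σ, ((LinearEquiv.smulOfNeZero K (Fin 2 → K) m⁻¹ (inv_ne_zero m0)).restrictScalars F).trans θ,
    fun g x => ?_, fun x y => ?_⟩
  · show ρ _ (t (m⁻¹ • x)) = t (m⁻¹ • (mx g *ᵥ x))
    rw [t2, mulVec_smul]
  · show B (t (m⁻¹ • x)) (t (m⁻¹ • y)) = _
    rw [l4, l5]
    congr 1
    simp only [dt, Pi.smul_apply, smul_eq_mul]
    field_simp

end Cfsg.Agent.SM.S6
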